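import Mathlib
import Cfsg.Agent.Lib.E62P.Main

/-!
# Elements of order 17 in 2E6(2): the computations
-/

set_option autoImplicit false
set_option Elab.async false

namespace CfsgLib.KInv.B17

open CfsgLib.Comput CfsgLib.E62P
open CfsgLib.CosetEnum (forceL forceL_eq)

/-- minimal polynomials -/
noncomputable def pl (i : ℕ) : List Bool := (List.range 58).map (Nat.testBit (nth 0
  [0x2b4aa3fe88a60e1, 0x386018f5a38ffcf, 0x230672e38a1, 0x300038001, 0x2d2afb1c1e35b, 0x266fa3423fc97] i))

/-- the second vector with the same polynomial -/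
noncomputable def pt (i : ℕ) : ℕ := nth 0 [9, 30, 4, 0, 16, 32] i

/-- an inverse matrix -/
def RR : ℕ := 0x25d1a6f9f638d8054cb4b82b9e4e40cf9770c8400000000000000000008b82b9e4e40cf9770c81277a5453418f6641a65a5cad7ca6eeb61b13c5371cfec478b8d2211728088a59e2ef86e9157b202055b6f238a9749d7f403a89e5104dc9f70e2800c99dc85a3d46f5864000c99dc85a3d46f586403fa408cbc2c219277ec095e16ca6de8a6ad0a600b200341d0fcfd4a0a404e77b8a3cc1321ef9001a8efa3799ab2509aa00902c0b29fdb8e3ec79021984f12b20a5719025838ea3f06b1373047700016581e1e1793ee857005236a0df4d0e51fb9a00c694b3c164bc21832c07af425a65e6c3afef601ecd49726bd4f12dcd7441af1b5fc66554af0df01490d18d6b1a2c5c47004e4128a146dd2671822d1521da91f0e4538f40f30179463e51e9195b01ed8acee42677c9fda68e3cc736961647e11e702531203ec8af767e2f40c6e184ac5696a9dd7091e48bc8a0000898581002b06ebff37b080a7b4a3574fdc6cb228ab19480c3b91f693038d5b10901d9e3418850188cc4b9c4c89a6d7afd802428b5367412663e910a9f8bc05f7c310acca8ddf95e005925a2e6f77bc97940040638fd3b461c58195132b0c08d93290b811c54222f6e0ea1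3c73bbd3300281314941a54b8ed4cf05ca4779a26c8481290a9890a2c6cf93e1e70834d129b8d58f8a6e0631fb2f759e566758389f82e4942ebb8b005357a2368f694e8de580f38804bbc32e4eb45015499863d6ec771e561c69f3b80b9dc44db8cb99aa75d01b0ce8a484337fdba3c09cab6e00d78a1830ab034689b71e8b4e0e72d808c1c896d790f24c9cd0192744125c775ef36140032ab52490ea4c2e0600538d98bffab36907fc0833f56710010565ff10037ddec9264fa22f2f408a25883829453f59cf039daf0c9002812c92440a5ac2c6b41fa8cade60231e84e3bdd866a2a6007ef47fffbd152462c0005951eced28c2138f840001673b6db7072f17302c471f5b56ca1b20b7c09e0b2facc5e52ed8ca03d7349d29566e51642c0c9b303b00c20d5ca0502df378fcce2f2696cd00d05536f0fd5996e5a0000000000000000000000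

/-- the matrix of `ad h + x` -/
noncomputable def Am (a : ℕ) : ℕ := Nat.xor (adm (m1 c17.cs a)) (wm [c17.w1])

/-- the images of a vector under the powers of a matrix -/
noncomputable def kry (A : List ℕ) (n : ℕ) : ℕ → List ℕ :=
  Nat.rec (motive := fun _ => ℕ → List ℕ) (fun _ => []) (fun _ ih v => force v fun v => v :: ih (m1 A v)) n

/-- the polynomials separate the fixed vectors -/
noncomputable def chk (a : ℕ) : Bool := forceL (unp (Am a)) fun A => allLt (fun i =>
  cond (Nat.beq a (Nat.pow 2 i)) (eqM (hqv (mm A) (pl i) (idS 78)) 0)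
    (cond (Nat.beq a (pt i)) true (neV (hqv (m1 A) (pl i) v0) 0))) 6

theorem okA0 : allLt chk 16 = true := by decide +kernel
theorem okA1 : allLt (fun a => force (Nat.add a 16) chk) 16 = true := by decide +kernel
theorem okA2 : allLt (fun a => force (Nat.add a 32) chk) 16 = true := by decide +kernel
theorem okA3 : allLt (fun a => force (Nat.add a 48) chk) 16 = true := by decide +kernel

theorem okA {a : ℕ} (ha : a < 64) : chk a = true := by
  have h : ∀ k, allLt (fun a => force (Nat.add a k) chk) 16 = true → k ≤ a → a < k + 16 → chk a = true :=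
    fun k h h1 h2 => by
      have := allLt_sound h (a - k) (by omega)
      rwa [force_eq, show Nat.add (a - k) k = a from Nat.sub_add_cancel h1] at this
  rcases (by omega : a < 16 ∨ (16 ≤ a ∧ a < 32) ∨ (32 ≤ a ∧ a < 48) ∨ 48 ≤ a) with h1 | h1 | h1 | h1
  exacts [allLt_sound okA0 a h1, h _ okA1 h1.1 h1.2, h _ okA2 h1.1 h1.2, h _ okA3 h1 ha]

theorem okB : (force (Am 3) fun B => forceL (unp B) fun A => band (band (eqM (iterN (mm A) 255 B) B)
    (allL (fun c => band (Nat.beq (m1 A c) c) (Nat.beq (wv [c17.w1] c) c)) c17.cs))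
    (forceL (c17.cs ++ kry A 72 (Nat.xor (m1 A v0) v0)) fun cs =>
      band (allL (fun v => Nat.ble (Nat.succ v) (Nat.pow 2 78)) cs) (eqM (mm cs RR) (idS 78)))) = true := by
  decide +kernel

end CfsgLib.KInv.B17
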