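import Mathlib
import Cfsg.Agent.Lib.Mon.Four1
import Cfsg.Agent.Lib.Mon.MOut
import Cfsg.Agent.Lib.Mon.CovI
import Cfsg.Agent.Lib.Mon.LFive
import Cfsg.Agent.Lib.MonRec.OnB

/-!
# Elements of `2^(1+24).Co₁` over an octad whose square is short
-/

set_option autoImplicit false

namespace CfsgLib.KInv.BU

open Cfsg CfsgLib.Leech CfsgLib.MType CfsgLib.Mon CfsgLib.Mon.Cov Finset Matrix
open scoped Pointwise symmDiff

variable {κ : Coord}

section comb

variable {d e f : Finset GolayPt}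

theorem card_c (s : Finset GolayPt) : sᶜ.card + s.card = 24 := by rw [card_compl_add_card, card_pt]

theorem card_inter_compl (d e : Finset GolayPt) : (d ∩ eᶜ).card + (d ∩ e).card = d.card := by
  rw [← sdiff_eq_inter_compl, card_sdiff_add_card_inter]

theorem inter_symm (d e : Finset GolayPt) : d ∩ (e ∆ d) = d ∩ eᶜ := by
  ext i; simp only [mem_inter, mem_symmDiff, mem_compl]; tauto

theorem pick2 (h : Std κ) (hd : IsCW d) (h8 : d.card = 8) (he : IsCW e) (h2 : (d ∩ e).card = 2) :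
    ∃ e', IsCW e' ∧ e'.card = 8 ∧ (d ∩ e').card = 2 ∧ (kk κ e' = kk κ e ∨ kk κ e' = kk κ e + kk κ d) := by
  have c1 := Golay.card_symmDiff_add e d
  rw [inter_comm] at c1
  have c2 := he.card_eq
  have c3 := (he.symmDiff hd).card_eq
  by_cases k : e.card = 8
  · exact ⟨e, he, k, h2, Or.inl rfl⟩
  have c4 := card_c (e ∆ d)
  have c5 := card_inter_compl d (e ∆ d)
  have c6 := card_inter_compl d e
  rw [inter_symm] at c5
  exact ⟨_, (he.symmDiff hd).compl, by omega, by omega, Or.inr ((h.kk_compl (he.symmDiff hd)).trans (h.kk_symmDiff he hd))⟩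

theorem pick (h : Std κ) (hd : IsCW d) (h8 : d.card = 8) (he : IsCW e) {a b : GolayPt} (hab : a ≠ b)
    (hf : IsCW ((d ∩ e) ∆ {a, b})) :
    ∃ e', IsCW e' ∧ e'.card = 8 ∧ (d ∩ e').card = 2 ∧ (kk κ e' = kk κ e ∨ kk κ e' = kk κ e + kk κ d) := by
  have c1 := Golay.card_symmDiff_add (d ∩ e) {a, b}
  have c2 := hf.card_eq
  have c3 := card_le_card (inter_subset_right (s₁ := d ∩ e) (s₂ := {a, b}))
  have c4 := card_le_card (inter_subset_left (s₁ := d ∩ e) (s₂ := {a, b}))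
  have c5 := card_le_card (inter_subset_left (s₁ := d) (s₂ := e))
  have c6 := hd.even_inter he
  rw [card_pair hab] at c1 c3
  have c7 : (d ∩ e).card ≠ 8 := fun k => by
    rw [eq_of_subset_of_card_le inter_subset_left (h8.trans k.symm).le] at hf
    have := (hd.symmDiff hf).card_eq
    rw [symmDiff_symmDiff_cancel_left, card_pair hab] at this
    omega
  by_cases k : (d ∩ e).card = 2
  · exact pick2 h hd h8 he k
  have c8 := card_inter_compl d e
  obtain ⟨e', k1, k2, k3, k4⟩ := pick2 h hd h8 (he.symmDiff hd) (by rw [inter_symm]; omega)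
  rw [h.kk_symmDiff he hd, add_assoc, w_add_self, add_zero] at k4
  exact ⟨e', k1, k2, k3, k4.symm⟩

theorem no_dod (hd : IsCW d) (he : IsCW e) (h1 : d.card = 12) (h2 : e.card = 12) (h3 : (d ∆ e).card = 12)
    {a b : GolayPt} (hab : a ≠ b) (hf : IsCW ((d ∩ e) ∆ {a, b})) : False := by
  have c0 := Golay.card_symmDiff_add d e
  have c1 := Golay.card_symmDiff_add (d ∩ e) {a, b}
  have c2 := hf.card_eq
  have c3 := card_le_card (inter_subset_right (s₁ := d ∩ e) (s₂ := {a, b}))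
  rw [card_pair hab] at c1 c3
  have c4 : d ∩ e ∩ {a, b} = ∅ := card_eq_zero.1 (by omega)
  have key : ∀ {s}, IsCW s → s.card = 12 → d ∩ e ⊆ s → ∀ i ∈ ({a, b} : Finset GolayPt), i ∉ s := fun {s} k1 k2 k3 i hi k => by
    have n : i ∉ d ∩ e := fun l => notMem_empty i (c4 ▸ mem_inter.2 ⟨l, hi⟩)
    have l1 := Golay.card_symmDiff_add ((d ∩ e) ∆ {a, b}) s
    have l2 := (hf.symmDiff k1).card_eq
    have l3 := card_le_card (show insert i (d ∩ e) ⊆ (d ∩ e) ∆ {a, b} ∩ s from fun j hj => by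
      rcases mem_insert.1 hj with rfl | hj
      · exact mem_inter.2 ⟨mem_symmDiff.2 (Or.inr ⟨hi, n⟩), k⟩
      · exact mem_inter.2 ⟨mem_symmDiff.2 (Or.inl ⟨hj, fun l => notMem_empty j (c4 ▸ mem_inter.2 ⟨hj, l⟩)⟩), k3 hj⟩)
    have l4 := card_le_card (inter_subset_left (s₁ := (d ∩ e) ∆ {a, b}) (s₂ := s))
    rw [card_insert_of_notMem n] at l3
    omega
  have l1 := Golay.card_symmDiff_add ((d ∩ e) ∆ {a, b}) (d ∆ e)
  have l2 := (hf.symmDiff (hd.symmDiff he)).card_eq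
  rw [show (d ∩ e) ∆ {a, b} ∩ d ∆ e = ∅ from eq_empty_of_forall_notMem fun i hi => by
    have k1 := key hd h1 inter_subset_left i
    have k2 := key he h2 inter_subset_right i
    simp only [mem_inter, mem_symmDiff] at hi
    tauto, card_empty] at l1
  omega

theorem triv0 (hd : IsCW d) (he : IsCW e) (h1 : d.card = 8) (h2 : e.card = 8) (h3 : (d ∩ e).card = 2) (hf : IsCW f)
    (k1 : d ∩ f = ∅) (k2 : e ∩ f = ∅ ∨ e ∩ f = e) : f = ∅ := by
  have k3 : e ∩ f = ∅ := k2.resolve_right fun k => by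
    rw [← k, inter_left_comm, k1, inter_empty] at h3
    simp at h3
  have m : ∀ i ∈ f, i ∉ d ∧ i ∉ e := fun i hi =>
    ⟨fun l => notMem_empty i (k1 ▸ mem_inter.2 ⟨l, hi⟩), fun l => notMem_empty i (k3 ▸ mem_inter.2 ⟨l, hi⟩)⟩
  have c0 := Golay.card_symmDiff_add d e
  have c1 := Golay.card_symmDiff_add f (d ∆ e)
  have c2 := (hf.symmDiff (hd.symmDiff he)).card_eq
  have c3 := hf.card_eq
  have c4 := card_le_card (show f ⊆ (d ∪ e)ᶜ from fun i hi => by simpa using m i hi)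
  have c5 := card_c (d ∪ e)
  have c6 := card_union_add_card_inter d e
  rw [show f ∩ d ∆ e = ∅ from eq_empty_of_forall_notMem fun i hi => by
    have := m i
    simp only [mem_inter, mem_symmDiff] at hi
    tauto, card_empty] at c1
  exact card_eq_zero.1 (by omega)

theorem inter_compl_or (h : e ∩ f = ∅ ∨ e ∩ f = e) : e ∩ fᶜ = ∅ ∨ e ∩ fᶜ = e := by
  simp only [Finset.ext_iff, mem_inter, mem_compl, notMem_empty] at h ⊢
  exact h.symm.imp (fun k i => by have := k i; tauto) fun k i => by have := k i; tauto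

theorem triv (h : Std κ) (hd : IsCW d) (he : IsCW e) (h1 : d.card = 8) (h2 : e.card = 8) (h3 : (d ∩ e).card = 2)
    (hf : IsCW f) (k1 : d ∩ f = ∅ ∨ d ∩ f = d) (k2 : e ∩ f = ∅ ∨ e ∩ f = e) : kk κ f = 0 := by
  rcases k1 with k1 | k1
  · rw [triv0 hd he h1 h2 h3 hf k1 k2, kk_empty]
  · rw [← h.kk_compl hf, triv0 hd he h1 h2 h3 hf.compl (by rw [← k1, inter_assoc, inter_compl, inter_empty])
      (inter_compl_or k2), kk_empty]

end comb

section lat

variable {d e : Finset GolayPt}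

theorem norm_ge {s : GolayPt → ℤ} {T : Finset GolayPt} (h : ∀ i ∈ T, s i % 4 = 2) : 4 * (T.card : ℤ) ≤ sqNorm s := by
  have : ∑ i ∈ T, (4 : ℤ) ≤ sqNorm s := (sum_le_sum fun i hi => by
    have := h i hi
    rcases (by omega : s i ≤ -2 ∨ 2 ≤ s i) with k | k <;> nlinarith).trans
      (sum_le_sum_of_subset_of_nonneg (subset_univ T) fun i _ _ => sq_nonneg (s i))
  rwa [sum_const, nsmul_eq_mul, mul_comm] at this

theorem φ_sub_sgn (hd : IsCW d) (a : leechLattice) :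
    κ.φ (a - sgnAut d hd • a) = κ.act (sgnAut d hd) (κ.φ a) + κ.φ a := by
  rw [MonRec.φ_sub, κ.act_φ, add_comm]

theorem exists_half (hd : IsCW d) {a l : leechLattice}
    (hs : IsShort κ (κ.act (sgnAut d hd) (κ.φ a) + κ.φ a + κ.φ l)) :
    ∃ s y : leechLattice, sqNorm s.1 = 32 ∧ ∀ i, s.1 i = (if i ∈ d then 2 * a.1 i else 0) + l.1 i + 2 * y.1 i := by
  obtain ⟨s, s1, s2⟩ := hs
  rw [← φ_sub_sgn hd, ← map_add, κ.φ_eq_iff] at s2
  obtain ⟨y, hy⟩ := s2
  refine ⟨s, y, s1, fun i => ?_⟩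
  have : s.1 i - ((a - sgnAut d hd • a).1 i + l.1 i) = 2 * y.1 i := congrArg (fun v : leechLattice => v.1 i) hy
  rw [sub_sgn_apply] at this
  omega

theorem duad (h : Std κ) (hd : IsCW d) (he : IsCW e) {w : V24} (hw : w.1 = kk κ e) {l : leechLattice}
    (hl : ∀ i, l.1 i % 8 = 0) (hs : IsShort κ (κ.act (sgnAut d hd) w + w + κ.φ l)) :
    ∃ a b, a ≠ b ∧ IsCW ((d ∩ e) ∆ {a, b}) := by
  obtain ⟨b, b1, b2⟩ := h.exists_four (x := w + κ.φ (tw e)) (by rw [Prod.fst_add, hw, kk, w_add_self])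
  have e1 : κ.φ (b + tw e) = w := by rw [map_add, b2, add_assoc, ww_add_self, add_zero]
  have md : ∀ i, (b + tw e).1 i % 4 = if i ∈ e then 2 else 0 := fun i => by
    have := b1 i
    simp only [AddSubgroup.coe_add, Pi.add_apply, tw_apply he]
    split_ifs <;> omega
  generalize b + tw e = a at e1 md
  subst e1
  obtain ⟨s, y, s1, s2⟩ := exists_half hd hs
  rcases even_or_odd y.2 with ev | od
  · obtain ⟨p, r, _, _, k⟩ := Sh.of_four s1 fun i => by
      have := s2 i; have := md i; have := hl i; have := ev i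
      split_ifs at * <;> omega
    refine ⟨p, r, k.ne, (isCW_cw y.2).congr fun i => ?_⟩
    have k1 : s.1 i % 8 = if i ∈ ({p, r} : Finset GolayPt) then 4 else 0 := by
      simp only [mem_insert, mem_singleton]
      split_ifs with l
      · have := k.hs; have := k.ht
        rcases l with rfl | rfl
        · rw [k.fst]; omega
        · rw [k.snd]; omega
      · rw [not_or] at l
        rw [k.zero l.1 l.2]; rfl
    have k2 := s2 i; have k3 := md i; have := hl i; have := ev i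
    rw [mem_cw, mem_symmDiff, mem_inter]
    generalize ({p, r} : Finset GolayPt) = P at k1 ⊢
    by_cases m1 : i ∈ d <;> by_cases m2 : i ∈ e <;> by_cases m3 : i ∈ P <;>
      simp [m1, m2, m3] at k1 k2 k3 ⊢ <;> omega
  · have := norm_ge (s := s.1) (T := univ) fun i _ => by
      have := s2 i; have := md i; have := hl i; have := od i
      split_ifs at * <;> omega
    rw [s1, card_univ, card_pt] at this
    omega

theorem even_of_dod (hd : IsCW d) (h12 : d.card = 12) {w : V24}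
    (hs : IsShort κ (κ.act (sgnAut d hd) w + w + w0 κ)) : om w (w0 κ) = 0 := by
  obtain ⟨a, rfl⟩ := κ.surj w
  refine om_w0_eq_zero.2 ((even_or_odd a.2).resolve_right fun oa => ?_)
  obtain ⟨s, y, s1, s2⟩ := exists_half hd (l := e8 none) hs
  have hl : ∀ i, (e8 none).1 i % 8 = 0 := by decide
  have c := card_c d
  rcases even_or_odd y.2 with ev | od
  · have := norm_ge (s := s.1) (T := d) fun i hi => by
      have := s2 i; have := oa i; have := hl i; have := ev i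
      rw [if_pos hi] at *; omega
    omega
  · have := norm_ge (s := s.1) (T := dᶜ) fun i hi => by
      have := s2 i; have := hl i; have := od i
      rw [if_neg (mem_compl.1 hi)] at *; omega
    omega

theorem exists_even (w : V24) : ∃ g : Co0, g * sgnAut _ cw_d0 = sgnAut _ cw_d0 * g ∧ om (κ.act g w) (w0 κ) = 0 := by
  obtain ⟨a, rfl⟩ := κ.surj w
  rcases even_or_odd a.2 with ev | od
  · exact ⟨1, by simp, by rw [κ.act_one]; exact om_w0_eq_zero.2 ev⟩
  have h1 := two_mul_xi_smul a (Golay.pt 4)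
  have h2 := two_mul_xi_smul (sgnAut _ cw_c0' • a) (Golay.pt 4)
  simp only [sgnAut_smul_apply] at h2
  rw [if_neg (by decide +kernel), if_neg (by decide +kernel), if_neg (by decide +kernel), if_pos (by decide +kernel)] at h2
  rw [show Leech.sg (Golay.pt 4) = -1 by decide +kernel] at h1 h2
  have := od (Golay.pt 4)
  by_cases k : (xi • a).1 (Golay.pt 4) % 2 = 0
  · exact ⟨xi, xi_comm_d0, by rw [κ.act_φ, om_w0 _ (Golay.pt 4)]; exact intCast_z2_eq_zero.2 k⟩
  refine ⟨xi * sgnAut _ cw_c0', ?_, by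
    rw [κ.act_φ, om_w0 _ (Golay.pt 4), mul_smul]; exact intCast_z2_eq_zero.2 (by omega)⟩
  rw [mul_assoc, sgnAut_mul, ← mul_assoc, ← xi_comm_d0, mul_assoc, sgnAut_mul]
  simp only [symmDiff_comm]

theorem om_Z {a b : V24} (ha : a.1 = 0) (hb : b.1 = 0) : om a b = 0 := by simp [om, bet, ha, hb]

theorem exists_tw (h : Std κ) {v : V24} (hv : om v (w0 κ) = 0) : ∃ f, IsCW f ∧ v.1 = kk κ f :=
  let ⟨f, a, b⟩ := h.exists_kk ((h.om_w0_eq v).symm.trans hv); ⟨f, a, b.symm⟩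

theorem sgn_fst (h : Std κ) (hd : IsCW d) {v : V24} (hv : om v (w0 κ) = 0) : (κ.act (sgnAut d hd) v + v).1 = 0 := by
  obtain ⟨f, hf, k⟩ := exists_tw h hv
  have := h.act_fst (sgnAut_mem_monoGrp d hd) (x := v + κ.φ (tw f)) (by rw [Prod.fst_add, k, kk, w_add_self])
  rw [map_add, Prod.fst_add, h.act_sgn_tw hd hf, ← k] at this
  exact this

theorem fix_or (hd : IsCW d) {m : V24} (k : ∀ v, om v (w0 κ) = 0 → om m (κ.act (sgnAut d hd) v + v) = 0) :
    κ.act (sgnAut d hd) m + m = 0 ∨ κ.act (sgnAut d hd) m + m = w0 κ := Mult.perp1 fun v hv => by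
  rw [om_add_left, ← κ.om_act (sgnAut d hd), act_act (sgnAut_mul_self d hd), ← om_add_right, k v hv]

theorem sgn_Z (h : Std κ) (hd : IsCW d) {m : V24} (hm : m.1 = 0) :
    κ.act (sgnAut d hd) m + m = 0 ∨ κ.act (sgnAut d hd) m + m = w0 κ :=
  fix_or hd fun _ hv => om_Z hm (sgn_fst h hd hv)

theorem sgn_tw_symm (hd : IsCW d) (he : IsCW e) :
    κ.act (sgnAut d hd) (κ.φ (tw e)) + κ.φ (tw e) = κ.act (sgnAut e he) (κ.φ (tw d)) + κ.φ (tw d) := by
  rw [← φ_sub_sgn, ← φ_sub_sgn]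
  refine congrArg _ (Subtype.ext (funext fun i => ?_))
  rw [sub_sgn_apply, sub_sgn_apply, tw_apply hd, tw_apply he]
  split_ifs <;> rfl

theorem exists_w0 (hd : IsCW d) (h8 : d.card = 8) : ∃ u, κ.act (sgnAut d hd) u + u = w0 κ := by
  obtain ⟨i, hi⟩ := card_pos.1 (by omega : 0 < d.card)
  obtain ⟨j, hj⟩ := card_pos.1 (by have := card_c d; omega : 0 < dᶜ.card)
  have ij : i ≠ j := fun k => mem_compl.1 hj (k ▸ hi)
  refine ⟨ls κ {i, j}, ?_⟩
  rw [act_sgn_ls hd (by rw [card_pair ij]), inter_insert_of_mem hi, inter_singleton_of_notMem (mem_compl.1 hj),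
    add_right_comm, ww_add_self]
  simp

theorem tw_ne (hd : IsCW d) (he : IsCW e) (h2 : (d ∩ e).card = 2) :
    κ.act (sgnAut d hd) (κ.φ (tw e)) ≠ κ.φ (tw e) := fun k => by
  have h1 : sqNorm (tw e - sgnAut d hd • tw e).1 = 32 := by
    rw [sqNorm, sum_congr rfl (g := fun i => if i ∈ d ∩ e then 16 else 0) fun i _ => by
      rw [sub_sgn_apply, tw_apply he]
      by_cases a : i ∈ d <;> by_cases b : i ∈ e <;> simp [a, b], ← sum_filter, filter_mem_eq_inter, univ_inter,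
      sum_const, h2]
    rfl
  exact φ_ne_zero (κ := κ) (h1.trans_le (by norm_num)) (by rw [h1]; norm_num) (by rw [φ_sub_sgn, k, ww_add_self])

end lat

/-- `c` acts like `g`, with the signs given by `w` on the fixed vectors -/
structure Ty (c : C κ) (g : Co0) (w : V24) : Prop where
  act : ∀ v, cact c v = κ.act g v
  eps : ∀ v, κ.act g v = v → cε c v = om w v

variable {c c' : C κ} {g : Co0} {w : V24} {d e : Finset GolayPt}

theorem Ty.conj (h : Ty c g w) (x : Chat κ) : Ty (Mon.mk κ x * c * (Mon.mk κ x)⁻¹) (x.g * g * x.g⁻¹) (κ.act x.g w) where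
  act v := by rw [← map_inv, cact_mul, cact_mul, cact_mk, cact_mk, h.act, κ.act_mul, κ.act_mul, Chat.inv_g]
  eps v hv := by
    obtain ⟨v, rfl⟩ : ∃ v', κ.act x.g v' = v := ⟨_, κ.act_act_inv _ _⟩
    rw [κ.act_mul, κ.act_mul, κ.act_inv_act] at hv
    replace hv := κ.act_injective _ hv
    rw [← map_inv, cε_mul, cε_mul, cact_mk, cε_mk, cε_mk, Chat.ε_inv, Chat.inv_g, κ.act_inv_act, h.act, hv, h.eps v hv,
      κ.om_act, add_left_comm, z2_add_self, add_zero]

theorem Ty.conj' (h : Ty c g w) {k g' : Co0} (e : k * g = g' * k) : ∃ c' : C κ, IsConj c c' ∧ Ty c' g' (κ.act k w) := by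
  obtain ⟨x, rfl⟩ := Chat.exists_g (κ := κ) k
  exact ⟨_, isConj_iff.2 ⟨_, rfl⟩, by simpa only [e, mul_inv_cancel_right] using h.conj x⟩

theorem Ty.shift (h : Ty c g w) (hg : g * g = 1) (u : V24) : Ty c g (w + (κ.act g u + u)) :=
  ⟨h.act, fun v hv => by
    rw [h.eps v hv, om_add_left, om_add_left, ← κ.om_act g (κ.act g u), act_act hg, hv, z2_add_self, add_zero]⟩

theorem Ty.isConj (h : Ty c g w) (h' : Ty c' g w) (hg : g * g = 1) (hw : κ.act g w ≠ w) : IsConj c c' := by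
  obtain ⟨e, m, k⟩ : c⁻¹ * c' ∈ Q κ := mem_Q_iff_cact.2 fun v => by rw [cact_mul, h'.act, ← h.act, cact_inv_cact]
  obtain rfl := inv_mul_eq_iff_eq_mul.1 k
  obtain ⟨u, hu⟩ := exists_eq_add_of_perp (κ := κ) hg (u := m) fun v hv => by
    have := h'.eps v hv
    rwa [cε_mul, cε_q, cact_q, h.eps v hv, add_eq_right, om_comm] at this
  obtain ⟨e', k'⟩ := conj_mul_q c e m u
  rw [show u + m + cact c u = 0 by
    rw [h.act, ← hu, add_comm (κ.act g u), ← add_assoc, ww_add_self, zero_add, ww_add_self]] at k'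
  refine IsConj.trans ?_ (isConj_iff.2 ⟨_, k'⟩).symm
  rcases z2_cases e' with rfl | rfl
  · rw [q_zero, mul_one]
  by_contra n
  refine hw (let ⟨u, hu⟩ := exists_eq_add_of_perp (κ := κ) hg (u := w) fun v hv => ?_; ?_)
  · have := (MonRec.conj_q_cases v ((h.act v).trans hv)).resolve_right fun k => n (isConj_iff.2 ⟨_, k⟩)
    rw [om_comm, ← h.eps v hv]
    exact (comm_q_iff.1 (mul_inv_eq_iff_eq_mul.1 this).symm).1
  · rw [← hu, map_add, act_act hg, add_comm]

theorem flat (h : Std κ) (hd : IsCW d) (he : IsCW e) (h1 : d.card = 8) (h2 : e.card = 8) (h3 : (d ∩ e).card = 2)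
    (T : Ty c (sgnAut d hd) w) (hw : w.1 = kk κ e) : ∃ c' : C κ, IsConj c c' ∧ Ty c' (sgnAut d hd) (κ.φ (tw e)) := by
  let A : AddSubgroup V24 :=
    { carrier := {m | m.1 = 0 ∧ ∀ (c : C κ) w, w.1 = kk κ e → Ty c (sgnAut d hd) w →
        ∃ c' : C κ, IsConj c c' ∧ Ty c' (sgnAut d hd) (w + m)}
      zero_mem' := ⟨rfl, fun c w _ T => ⟨c, .refl _, by rwa [add_zero]⟩⟩
      add_mem' := fun {a b} ha hb => ⟨by rw [Prod.fst_add, ha.1, hb.1, add_zero], fun c w hw T =>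
        let ⟨c1, k1, k2⟩ := ha.2 c w hw T
        let ⟨c2, k3, k4⟩ := hb.2 c1 _ (by rw [Prod.fst_add, ha.1, add_zero, hw]) k2
        ⟨c2, k1.trans k3, by rwa [← add_assoc]⟩⟩
      neg_mem' := fun {a} ha => by rwa [neg_eq_of_add_eq_zero_right (ww_add_self a)] }
  have a1 : ∀ u, (κ.act (sgnAut d hd) u + u).1 = 0 → κ.act (sgnAut d hd) u + u ∈ A := fun u hu =>
    ⟨hu, fun c w _ T => ⟨c, .refl _, T.shift (sgnAut_mul_self d hd) u⟩⟩
  have a2 : w0 κ ∈ A := let ⟨u, hu⟩ := exists_w0 (κ := κ) hd h1; hu ▸ a1 u (hu ▸ h.w0_fst)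
  have a3 : ∀ {f} (hf : IsCW f) {m : V24}, m.1 = 0 → κ.act (sgnAut f hf) m + m ∈ A := fun hf m hm =>
    (sgn_Z h hf hm).elim (fun k => k ▸ zero_mem _) fun k => k ▸ a2
  have sp : ∀ {f f'} (hf : IsCW f) (v : V24), κ.act (sgnAut f hf) v + v = κ.act (sgnAut f hf) (κ.φ (tw f')) + κ.φ (tw f') +
      (κ.act (sgnAut f hf) (v + κ.φ (tw f')) + (v + κ.φ (tw f'))) := fun {f f'} hf v => by
    rw [map_add, add_add_add_comm (κ.act _ v), add_left_comm, ww_add_self, add_zero]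
  have z1 : ∀ {f} {v : V24}, v.1 = kk κ f → (v + κ.φ (tw f)).1 = 0 := fun k => by rw [Prod.fst_add, k, kk, w_add_self]
  have a4 : ∀ v, om v (w0 κ) = 0 → κ.act (sgnAut e he) v + v ∈ A := fun v hv => by
    obtain ⟨f, hf, k⟩ := exists_tw h hv
    rw [sp (f' := f), sgn_tw_symm he hf]
    refine add_mem ⟨sgn_fst h hf (om_tw_w0 e), fun c w hw T => ?_⟩ (a3 he (z1 k))
    obtain ⟨c1, k1, k2⟩ := T.conj' (k := sgnAut f hf) (g' := sgnAut d hd) (by
      rw [sgnAut_mul, sgnAut_mul]; simp only [symmDiff_comm])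
    have k5 := sp (f' := e) hf w
    obtain ⟨c2, k3, k4⟩ := (a3 hf (z1 hw)).2 c1 _ (by
      have := sgn_fst h hf (v := w) (by rw [h.om_w0_eq, hw, h.w0_dot_kk])
      rw [Prod.fst_add] at this
      rw [← hw, w_eq_add_iff.1 this.symm, zero_add]) k2
    refine ⟨c2, k1.trans k3, ?_⟩
    convert k4 using 1
    rw [← add_left_inj (κ.act (sgnAut f hf) (w + κ.φ (tw e)) + (w + κ.φ (tw e))), add_assoc, ← k5, add_assoc _ (_ + _),
      ww_add_self, add_zero, add_left_comm, ww_add_self, add_zero]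
  have a5 : w + κ.φ (tw e) ∈ A := by
    rw [← perp_perp A]
    intro m hm
    obtain ⟨e1, k1, k2, k3⟩ := h.fix_cases hd (Or.inl h1) (fix_or hd fun v hv => hm _ (a1 v (sgn_fst h hd hv)))
    obtain ⟨e2, l1, l2, l3⟩ := h.fix_cases he (Or.inl h2) (fix_or he fun v hv => hm _ (a4 v hv))
    refine om_Z (z1 hw) (k2.trans (triv h hd he h1 h2 h3 k1 k3 ?_))
    rcases h.kk_eq_zero (k1.symmDiff l1) (by rw [h.kk_symmDiff k1 l1, ← k2, ← l2, w_add_self]) with k | k
    · rwa [symmDiff_eq_bot.1 k]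
    · rw [show e1 = e2ᶜ from (symmDiff_eq_top _ _).1 k |>.eq_compl]
      exact inter_compl_or l3
  obtain ⟨c', k1, k2⟩ := a5.2 c w hw T
  exact ⟨c', k1, by rwa [← add_assoc, ww_add_self, zero_add] at k2⟩

theorem norm (h : Std κ) (T : Ty c (sgnAut _ cw_d0) w) (hs : IsShort κ (κ.act (sgnAut _ cw_d0) w + w)) :
    ∃ (c' : C κ) (e : Finset GolayPt), IsConj c c' ∧ IsCW e ∧ e.card = 8 ∧ (Golay.ofMask 8536111 ∩ e).card = 2 ∧
      Ty c' (sgnAut _ cw_d0) (κ.φ (tw e)) := by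
  have h8 : (Golay.ofMask 8536111).card = 8 := by decide +kernel
  obtain ⟨g, g1, g2⟩ := exists_even (κ := κ) w
  obtain ⟨c1, k1, k2⟩ := T.conj' g1
  obtain ⟨e, he, k3⟩ := exists_tw h g2
  obtain ⟨a, b, ab, k4⟩ := duad h cw_d0 he k3 (l := 0) (fun _ => rfl) (by
    obtain ⟨s, s1, s2⟩ := hs
    exact ⟨g • s, (sqNorm_smul g s).trans s1, by
      rw [← κ.act_φ, s2, map_zero, add_zero, map_add, ← κ.act_mul, ← κ.act_mul, g1]⟩)
  obtain ⟨e', l1, l2, l3, l4⟩ := pick h cw_d0 h8 he ab k4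
  rcases l4 with l4 | l4
  · obtain ⟨c2, m1, m2⟩ := flat h cw_d0 l1 h8 l2 l3 k2 (k3.trans l4.symm)
    exact ⟨c2, e', k1.trans m1, l1, l2, l3, m2⟩
  · obtain ⟨c2, m1, m2⟩ := flat h cw_d0 l1 h8 l2 l3 (k2.shift (sgnAut_mul_self _ _) (lam κ none)) (by
      rw [Prod.fst_add, Prod.fst_add, h.act_sgn_lam, h.lam_fst, add_right_comm (a0 κ), w_add_self, zero_add, k3, l4])
    exact ⟨c2, e', k1.trans m1, l1, l2, l3, m2⟩

theorem ty_conj (h : Std κ) {w' : V24} (T : Ty c (sgnAut _ cw_d0) w) (hs : IsShort κ (κ.act (sgnAut _ cw_d0) w + w))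
    (T' : Ty c' (sgnAut _ cw_d0) w') (hs' : IsShort κ (κ.act (sgnAut _ cw_d0) w' + w')) : IsConj c c' := by
  obtain ⟨c1, e, k1, k2, k3, k4, k5⟩ := norm h T hs
  obtain ⟨c2, e', l1, l2, l3, l4, l5⟩ := norm h T' hs'
  have h8 : (Golay.ofMask 8536111).card = 8 := by decide +kernel
  obtain ⟨σ, hσ, e1, e2⟩ := M24E.pt_octad_octad _ ⟨cw_d0, h8⟩ _ ⟨cw_d0, h8⟩ e ⟨k2, k3⟩ e' ⟨l2, l3⟩ (k4.trans l4.symm)
  let s : M24 := ⟨σ, hσ⟩
  have e1' : s • Golay.ofMask 8536111 = Golay.ofMask 8536111 := e1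
  have e2' : s • e = e' := e2
  obtain ⟨c3, m1, m2⟩ := k5.conj' (k := permAut s) (g' := sgnAut _ cw_d0) (by rw [permAut_mul_sgnAut]; simp only [e1'])
  rw [κ.act_φ, perm_tw s k2, e2'] at m2
  exact (k1.trans m1).trans ((m2.isConj l5 (sgnAut_mul_self _ _) (tw_ne cw_d0 l2 l4)).trans l1.symm)

end CfsgLib.KInv.BU
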