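import Mathlib
import Cfsg.Agent.Lib.KInv.Tool
import Cfsg.Agent.Lib.BabRec.OnA
import Cfsg.Agent.Lib.Co1Rec.Inv
import Cfsg.Agent.Lib.KInv.SpBU1

/-!
# Square roots of a 2A involution (package BU of plans/KINV.md)
-/

set_option autoImplicit false

namespace CfsgLib.KInv

namespace BU

open Cfsg CfsgLib.Leech CfsgLib.MType CfsgLib.Mon CfsgLib.Mon.Cov Finset
open scoped symmDiff

variable {κ : Coord} {c c' : C κ} {d : Finset GolayPt}

/-- the square is short -/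
def Sq (c : C κ) : Prop := ∃ e v, IsShort κ v ∧ c * c = q κ e v

theorem Sq.conj (h : Sq c) (e : IsConj c c') : Sq c' := by
  obtain ⟨k, rfl⟩ := isConj_iff.1 e
  obtain ⟨x, rfl⟩ := mk_surjective k
  obtain ⟨e, _, ⟨s, s1, rfl⟩, k⟩ := h
  exact ⟨_, _, ⟨x.g • s, (sqNorm_smul _ s).trans s1, rfl⟩, by rw [conj_mul, k, mk_conj_q, κ.act_φ]⟩

theorem Sq.notMem (h : Sq c) : c ∉ Q κ := by
  rintro ⟨e, v, rfl⟩
  obtain ⟨e', _, ⟨s, s1, rfl⟩, k⟩ := h
  rw [q_mul_self] at k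
  exact φ_ne_zero (by omega) (by omega) (q_inj k).2.symm

theorem Sq.short {y : Chat κ} {e : ZMod 2} {u v : V24} (h : Sq (mk κ y * q κ e v)) (hu : mk κ y * mk κ y = q κ 0 u) :
    IsShort κ (κ.act y.g v + v + u) := by
  obtain ⟨e', s, s1, k⟩ := h
  have : mk κ y * q κ e v * (mk κ y)⁻¹ * (mk κ y * mk κ y) * q κ e v = q κ e' s := by
    rw [← k]; simp only [mul_assoc, inv_mul_cancel_left]
  rw [mk_conj_q, hu, q_mul, q_mul] at this
  rwa [add_right_comm, (q_inj this).2]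

theorem sq_Y (h : Std κ) {y : Chat κ} (hy : IsY 0 d y) :
    (d.card = 8 → mk κ y * mk κ y = q κ 0 0) ∧ (d.card = 12 → mk κ y * mk κ y = q κ 0 (w0 κ)) := by
  have hyy := mul_mem (gam_Y hy) (gam_Y hy)
  rw [Prod.mk_mul_mk, mk_xq, q_mul_self, qf_xv hy.isCW] at hyy
  refine ⟨fun h8 => ?_, fun h8 => ?_⟩ <;> rw [h8] at hyy
  · exact ((Mult.gam_one h hyy).2 q_zero).trans q_zero.symm
  · exact Mult.gam_uniq' h hyy h.gam_z''

theorem exists_y (h : Std κ) (hd : IsCW d) (e : IsConj (toCo1 κ c) (sgnAut d hd)) :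
    ∃ y e v, IsY 0 d y ∧ IsConj c (mk κ y * q κ e v) := by
  obtain ⟨k, hk⟩ := isConj_iff.1 e
  obtain ⟨k, rfl⟩ := toCo1_surjective (κ := κ) k
  rw [← map_inv, ← map_mul, ← map_mul] at hk
  obtain ⟨x, x1, x2⟩ := exists_mk_of_toCo1 hk.symm
  obtain ⟨y, hy⟩ := h.exists_Y 0 hd
  obtain ⟨e, v, hv⟩ := hy.exists_q (x1.trans hy.g_eq.symm)
  exact ⟨y, e, v, hy, isConj_iff.2 ⟨k, x2.symm.trans hv⟩⟩

/-- over the class of the octad sign changes -/
def Oc (c : C κ) : Prop := IsConj Co1Rec.zz (toCo1 κ c)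

theorem exists_ty (h : Std κ) (h1 : Sq c) (h2 : Oc c) : ∃ (c' : C κ) (w : V24), IsConj c c' ∧ Ty c' (sgnAut _ cw_d0) w ∧
    IsShort κ (κ.act (sgnAut _ cw_d0) w + w) := by
  have h8 : (Golay.ofMask 8536111).card = 8 := by decide +kernel
  obtain ⟨y, e, v, hy, k⟩ := exists_y h cw_d0 (IsConj.symm h2 |>.trans (Co1Rec.conj_oct cw_d0 (Or.inl h8)))
  refine ⟨_, v, k, ⟨fun u => by rw [cact_mul, cact_q, cact_mk, hy.g_eq], fun u hu => ?_⟩, ?_⟩
  · rw [cε_mul, cε_q, cact_q, cε_mk, hy.ε_fix h h8 (hy.g_eq ▸ hu), add_zero]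
  · have := (h1.conj k).short ((sq_Y h hy).1 h8)
    rwa [add_zero, hy.g_eq] at this

theorem oct_conj (h : Std κ) (h1 : Sq c) (h2 : Oc c) (h3 : Sq c') (h4 : Oc c') : IsConj c c' :=
  let ⟨_, _, a1, a2, a3⟩ := exists_ty h h1 h2
  let ⟨_, _, b1, b2, b3⟩ := exists_ty h h3 h4
  (a1.trans (ty_conj h a2 a3 b2 b3)).trans b1.symm

theorem not_uu {x : Chat κ} (hg : x.g * x.g = negAut) : ¬ Sq (mk κ x) := by
  rintro ⟨e, _, ⟨s, s1, rfl⟩, k⟩
  have := (comm_q_iff.1 (k ▸ (mul_assoc _ _ _).symm : mk κ x * q κ e (κ.φ s) = q κ e (κ.φ s) * mk κ x)).2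
  rw [cact_mk, act_φ_eq_iff (by omega), mem_pm] at this
  have h2 : (x.g * x.g) • s = s := by rcases this with l | l <;> simp [mul_smul, l]
  rw [hg, negAut_smul] at h2
  exact ne_neg_self (u := s) (by rintro rfl; simp [sqNorm] at s1) h2.symm

variable {G : Type*} [Group G] {π : C k0 →* G} {τ : G}

theorem step (h : MS π τ) {x : Chat k0} (hd : IsCW d) (hx : x.g = sgnAut d hd)
    (k : IsConj (π tK) (π (mk k0 x) * π (mk k0 x))) (h12 : d.card ≠ 12) : Sq (mk k0 x) ∧ Oc (mk k0 x) := by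
  rw [← map_mul] at k
  have s : Sq (mk k0 x) := h.short_of_isConj (by
    rw [← map_mul, mk_mem_Q, Chat.mul_g, hx, sgnAut_mul_self]; exact Or.inl rfl) k
  refine ⟨s, ?_⟩
  have n := s.notMem
  rw [mk_mem_Q, hx, not_or] at n
  rw [Oc, toCo1_mk, hx]
  refine Co1Rec.conj_oct hd ?_
  have h0 : d.card ≠ 0 := fun e => n.1 (by obtain rfl := card_eq_zero.1 e; exact sgnAut_empty)
  have h24 : d.card ≠ 24 := fun e => n.2 (by obtain rfl := hd.eq_univ (by omega); rfl)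
  have := hd.card_eq
  omega

theorem exists_oc (h : MS π τ) {a : C k0} (ha : Sq a) : ∃ b, Sq b ∧ Oc b ∧ IsConj (π a) (π b) := by
  have h2 : toCo1 k0 a * toCo1 k0 a = 1 := by
    obtain ⟨e, v, -, k⟩ := ha
    rw [← map_mul, k, toCo1_eq_one]
    exact q_mem_Q _ _
  rcases Co1Rec.inv3 h2 (mt toCo1_eq_one.1 ha.notMem) with e | e | e
  · exact ⟨a, ha, e, .refl _⟩
  swap
  · obtain ⟨x, rfl⟩ := mk_surjective a
    exact absurd ha (not_uu (Co1Rec.conj_uu e))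
  have hd : IsCW (Golay.ofMask 340831) := isCW_ofMask (by decide +kernel)
  have h12 : (Golay.ofMask 340831).card = 12 := by decide +kernel
  generalize Golay.ofMask 340831 = d at hd h12
  obtain ⟨y, e0, v, hy, k⟩ := exists_y std_k0 hd (e.symm.trans (Co1Rec.conj_dod hd h12))
  have s1 := ha.conj k
  have s2 := s1.short ((sq_Y std_k0 hy).2 h12)
  rw [hy.g_eq] at s2
  obtain ⟨f, e, r, he, hr, l⟩ := std_k0.exists_xq e0 (even_of_dod hd h12 s2)
  obtain ⟨y', hy'⟩ := std_k0.exists_Y f he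
  obtain ⟨i, j, ij, hf⟩ := duad std_k0 hd he (w := v) (by
    rw [xq, qh_mul] at l
    rw [(qh_inj l).2, Prod.fst_add, std_k0.xv_fst, (isE_qh.1 hr).2.1, add_zero]) (l := e8 none) (by decide) s2
  have g1 := mul_mem (mul_mem (gam_Y hy) (gam_X hy')) (gam_E hr)
  have g2 := mul_mem (mul_mem (gam_X hy) (gam_XY hy')) (gam_E hr)
  simp only [Prod.mk_mul_mk, ← map_mul] at g1 g2
  replace g1 := h.am.conj g1
  replace g2 := h.am.conj g2
  rw [mul_assoc y, ← l, map_mul (mk k0) y, mk_qh] at g1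
  have c1 := (π.map_isConj k).trans (isConj_iff.2 ⟨τ, g1⟩).symm
  have c2 := c1.trans (isConj_iff.2 ⟨τ, g2⟩).symm
  have sq : ∀ {b}, IsConj (π a) b → IsConj (π tK) (b * b) := fun e => by
    obtain ⟨g, rfl⟩ := isConj_iff.1 e
    obtain ⟨e, v, k1, k2⟩ := ha
    exact (k1.isConj π e).trans (isConj_iff.2 ⟨g, by rw [conj_mul, ← map_mul, k2]⟩)
  by_cases n1 : e.card = 12
  · obtain ⟨a, b⟩ := step h (hd.symmDiff he) (by
      simp [xq, hy.g_eq, hy'.g_eq, ← sgnAut_mul _ _ hd he, inv_eq_of_mul_eq_one_right (sgnAut_mul_self d hd)]) (sq c2)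
      (fun n2 => no_dod hd he h12 n1 n2 ij hf)
    exact ⟨_, a, b, c2⟩
  · obtain ⟨a, b⟩ := step h he (by
      simp [xq, hy'.g_eq, inv_eq_of_mul_eq_one_right (sgnAut_mul_self e he)]) (sq c1) n1
    exact ⟨_, a, b, c1⟩

theorem exists_sq (h : MS π τ) {c : G} (hc : c * c = π tK) : ∃ a, Sq a ∧ IsConj c (π a) := by
  have := h.finite
  let u : KK π τ := ⟨c, h.cent_t.le (Subgroup.mem_centralizer_singleton_iff.2 (by rw [← hc, mul_assoc]))⟩
  obtain ⟨j, hj⟩ := Mon.exists_conj_le (A := Subgroup.zpowers u) (H := (DCX.piR (π.comp CK.subtype) τ).range)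
    (IsPGroup.of_card_dvd_pow (n := 2) (by
      rw [Nat.card_zpowers, orderOf_dvd_iff_pow_eq_one]
      refine Subtype.ext (show c ^ 2 ^ 2 = 1 from ?_)
      rw [← MS.t_mul_self π, ← hc]; simp [pow_succ, mul_assoc])) (by
      rw [h.kr.index_range (DCX.gen_piR _ _)]
      norm_num)
  obtain ⟨a, ha⟩ := hj u (Subgroup.mem_zpowers u)
  have e : π a.1 = j.1⁻¹ * c * j.1 := congrArg Subtype.val ha
  refine ⟨a.1, ⟨0, _, ⟨_, sqNorm_tK, rfl⟩, tK_eq ▸ h.inj ?_⟩, isConj_iff.2 ⟨j.1⁻¹, by rw [e, inv_inv]⟩⟩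
  rw [map_mul, e, ← inv_mul_cancel_left j.1 (π tK), Subgroup.mem_centralizer_singleton_iff.1 (h.cent_t.ge j.2), ← hc]
  group

end BU

open Cfsg Subgroup CfsgLib.LAE CfsgLib.Mon CfsgLib.Mon.Cov CfsgLib.Mon.Y Cfsg.Spor Cfsg.Lie

theorem conj_of_sq {G : Type*} [Group G] {π : C k0 →* G} {τ : G} (h : MS π τ) {c c' : G} (hc : c * c = π tK)
    (hc' : c' * c' = π tK) : ∃ k, Commute k (π tK) ∧ (k * c * k⁻¹ = c' ∨ k * c * k⁻¹ = c'⁻¹) := by
  obtain ⟨a, a1, a2⟩ := BU.exists_sq h hc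
  obtain ⟨a', b1, b2⟩ := BU.exists_sq h hc'
  obtain ⟨b, a3, a4, a5⟩ := BU.exists_oc h a1
  obtain ⟨b', b3, b4, b5⟩ := BU.exists_oc h b1
  obtain ⟨k, hk⟩ := isConj_iff.1 (((a2.trans a5).trans (π.map_isConj (BU.oct_conj std_k0 a3 a4 b3 b4))).trans
    (b2.trans b5).symm)
  exact ⟨k, mul_inv_eq_iff_eq_mul.1 (by rw [← hc, ← conj_mul, hk, hc', hc]), Or.inl hk⟩

end CfsgLib.KInv
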