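import Mathlib
import Cfsg.Agent.Lib.KInv.NF
import Cfsg.Agent.Lib.KInv.Tr
import Cfsg.Agent.Lib.E62.FiveC
import Cfsg.Agent.Lib.E62P.Main
import Cfsg.Agent.Lib.KInv.B17D
import Cfsg.Agent.S2227

/-!
# Elements of order 17 in 2E6(2) (package B17 of plans/KINV.md)
-/

set_option autoImplicit false

namespace CfsgLib.KInv.B17

open Cfsg.Lie CfsgLib.Comput CfsgLib.Y333 CfsgLib.Fischer CfsgLib.ChevFold CfsgLib.E62P Matrix Subgroup Polynomial
open CfsgLib.Chev hiding force force_eq allLt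
open CfsgLib.CosetEnum (forceL forceL_eq)

theorem ncard_modEq {X : Type*} [Finite X] {f : X → X} {S : Set X} (hm : Set.MapsTo f S S) {p : ℕ} [Fact p.Prime]
    (hf : ∀ v ∈ S, f^[p] v = v) : S.ncard ≡ {v ∈ S | f v = v}.ncard [MOD p] := by
  classical
  have := Fintype.ofFinite X
  have h := Equiv.Perm.card_fixedPoints_modEq (f := (hm.restrict f S S : Function.End S)) (p := p) (n := 1) (by
    funext v
    refine Subtype.ext ?_
    rw [pow_one]
    exact (hm.coe_iterate_restrict v p).trans (hf v v.2))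
  rw [← Nat.card_eq_fintype_card, ← Nat.card_eq_fintype_card] at h
  rw [← Nat.card_coe_set_eq, ← Nat.card_coe_set_eq]
  convert h using 1
  exact Nat.card_congr ⟨fun v => ⟨⟨v.1, v.2.1⟩, Subtype.ext v.2.2⟩, fun v => ⟨v.1.1, v.1.2, congrArg Subtype.val v.2⟩,
    fun _ => rfl, fun _ => rfl⟩

theorem fix_of_pair {G X : Type*} [Group G] [MulAction G X] {y : G} (ho : Odd (orderOf y)) {S : Set X} {p q : X}
    (hS : ∀ v ∈ S, v = p ∨ v = q) (hm : ∀ v ∈ S, y • v ∈ S) (hp : p ∈ S) : y • p = p := by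
  by_contra h
  have h1 := (hS _ (hm _ hp)).resolve_left h
  have h2 : y ^ 2 ∈ MulAction.stabilizer G p := by
    rw [MulAction.mem_stabilizer_iff, sq, mul_smul]
    exact (hS _ (hm _ (hm _ hp))).resolve_right fun e => h (MulAction.injective y (e.trans h1.symm))
  obtain ⟨k, hk⟩ := ho
  have h3 := pow_mem h2 (k + 1)
  rw [← pow_mul, show 2 * (k + 1) = orderOf y + 1 by omega, pow_succ, pow_orderOf_eq_one, one_mul] at h3
  exact h h3

theorem arith {r m n : ℕ} (h1 : r ∈ [22, 32, 32, 38]) (h3 : 2 ^ (78 - r) ≡ 2 ^ m [MOD 17]) (h4 : 2 ^ n ≡ 2 ^ m [MOD 2])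
    (h8 : 2 ^ n ≤ 64) (h9 : 1 < 2 ^ n) (h10 : 2 ^ m ≤ 2 ^ n) : 2 ^ n ≤ 2 ^ m := by
  have n6 : n ≤ 6 := (Nat.pow_le_pow_iff_right one_lt_two).1 h8
  have mn := (Nat.pow_le_pow_iff_right one_lt_two).1 h10
  revert r
  interval_cases n <;> interval_cases m <;> revert h4 h9 <;> decide

theorem aeval_pow {K R : Type*} [Field K] [Fintype K] [Ring R] [Algebra K R] (A : R) (p : K[X]) (n : ℕ) :
    aeval A p ^ Fintype.card K ^ n = aeval (A ^ Fintype.card K ^ n) p := by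
  induction n with
  | zero => simp
  | succ n ih => rw [pow_succ, pow_mul, ih, ← map_pow, ← FiniteField.expand_card, expand_aeval, ← pow_mul]

variable {K : Type*} [Field K] {ω : Kˣ} [CharP K 2]

variable (ω) in
/-- the `F₂`-form -/
def VV : AddSubgroup (chevE6.Idx → K) where
  carrier := Set.range (dv ω)
  add_mem' := by rintro _ _ ⟨a, rfl⟩ ⟨b, rfl⟩; exact ⟨_, dec2_xor add_self_vec' _ _ a b 0⟩
  zero_mem' := ⟨0, dec2_zero _ _ _⟩
  neg_mem' := fun {v} h => by rwa [neg_eq_of_add_eq_zero_right (add_self_vec' v)]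

/-- the fixed vectors -/
def Fx (A : Matrix chevE6.Idx chevE6.Idx K) : Submodule K (chevE6.Idx → K) := LinearMap.ker (A - 1).mulVecLin

omit [CharP K 2] in
theorem mem_Fx {A : Matrix chevE6.Idx chevE6.Idx K} {v : chevE6.Idx → K} : v ∈ Fx A ↔ A • v = v := by
  rw [Fx, LinearMap.mem_ker, mulVecLin_apply, sub_mulVec, one_mulVec, sub_eq_zero]; rfl

variable (hω : ω.1 ^ 2 + ω.1 + 1 = 0)
include hω

theorem indep {a b : chevE6.Idx → K} (ha : a ∈ VV ω) (hb : b ∈ VV ω) (h : a + ω.1 • b = 0) : a = 0 ∧ b = 0 := by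
  obtain ⟨x, rfl⟩ := ha
  obtain ⟨y, rfl⟩ := hb
  have h1 : LinearIndependent K fun k : Fin 78 => eB ω k := linearIndependent_of_top_le_span_of_card_eq_finrank
    (span_eB hω _ fun k hk => Submodule.subset_span (Set.mem_range_self (⟨k, hk⟩ : Fin 78))).ge (by simp; rfl)
  have h2 := Fintype.linearIndependent_iff.1 h1
    (fun k => (if x.testBit k then 1 else 0) + ω.1 * if y.testBit k then 1 else 0) (by
      rw [← h]
      simp [dv, dec2, Finset.sum_range, add_smul, Finset.sum_add_distrib, Finset.smul_sum])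
  have h3 : ∀ k : Fin 78, x.testBit k = false ∧ y.testBit k = false := fun k => by
    have := h2 k
    cases hx : x.testBit k <;> cases hy : y.testBit k <;> simp [hx, hy] at this ⊢
    grind
  constructor <;> simp [dv, dec2, Finset.sum_range, h3]

variable [Fintype K] (hK : Fintype.card K = 4)
include hK

theorem exists_add (v : chevE6.Idx → K) : ∃ a ∈ VV ω, ∃ b ∈ VV ω, v = a + ω.1 • b := by
  let W : Submodule K (chevE6.Idx → K) :=
    { carrier := {v | ∃ a ∈ VV ω, ∃ b ∈ VV ω, v = a + ω.1 • b}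
      add_mem' := by
        rintro _ _ ⟨a, ha, b, hb, rfl⟩ ⟨c, hc, d, hd, rfl⟩
        exact ⟨_, add_mem ha hc, _, add_mem hb hd, by rw [smul_add, add_add_add_comm]⟩
      zero_mem' := ⟨0, zero_mem _, 0, zero_mem _, by simp⟩
      smul_mem' := by
        rintro c _ ⟨a, ha, b, hb, rfl⟩
        have h1 : c ^ 4 = c := hK ▸ FiniteField.pow_card c
        have h2 : ω.1 * ω.1 = 1 + ω.1 := by grind
        rcases (by grind : c = 0 ∨ c = 1 ∨ c = ω.1 ∨ c = 1 + ω.1) with rfl | rfl | rfl | rfl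
        · exact ⟨0, zero_mem _, 0, zero_mem _, by simp⟩
        · exact ⟨a, ha, b, hb, one_smul _ _⟩
        · exact ⟨b, hb, _, add_mem ha hb, by rw [smul_add, smul_smul, h2]; module⟩
        · refine ⟨_, add_mem ha hb, a, ha, ?_⟩
          rw [smul_add, smul_smul, show (1 + ω.1) * ω.1 = 1 by grind]; module }
  exact (span_eB hω W fun k hk => ⟨_, ⟨_, dec2_two_pow _ hk⟩, 0, zero_mem _, by simp⟩).ge trivial

theorem smul_mem (g : twistedE6 K 2) {v : chevE6.Idx → K} (hv : v ∈ VV ω) : g.1.1 • v ∈ VV ω := by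
  obtain ⟨x, rfl⟩ := hv
  obtain ⟨m, hm⟩ := exists_pk hω hK g.2
  exact ⟨_, hm.lk.m1 x⟩

theorem card_sq (g : twistedE6 K 2) :
    Nat.card ↥(VV ω ⊓ (Fx g.1.1).toAddSubgroup) ^ 2 = (2 ^ (78 - (g.1.1 - 1).rank)) ^ 2 := by
  have h1 := (g.1.1 - 1).mulVecLin.finrank_range_add_finrank_ker
  rw [show Module.finrank K (chevE6.Idx → K) = 78 by simp; rfl] at h1
  rw [← pow_mul, mul_comm, pow_mul, show 2 ^ 2 = Nat.card K by rw [Nat.card_eq_fintype_card, hK]; rfl,
    show 78 - (g.1.1 - 1).rank = Module.finrank K (Fx g.1.1) from (Nat.eq_sub_of_add_eq' h1).symm,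
    ← Module.natCard_eq_pow_finrank, sq, ← Nat.card_prod]
  refine Nat.card_congr (Equiv.ofBijective (fun p => ⟨p.1.1 + ω.1 • p.2.1, add_mem p.1.2.2 (Submodule.smul_mem _ _ p.2.2.2)⟩)
    ⟨fun p q e => ?_, fun v => ?_⟩)
  · have := indep hω (sub_mem p.1.2.1 q.1.2.1) (sub_mem p.2.2.1 q.2.2.1) (by
      rw [smul_sub, sub_add_sub_comm, sub_eq_zero]; exact congrArg Subtype.val e)
    exact Prod.ext (Subtype.ext (sub_eq_zero.1 this.1)) (Subtype.ext (sub_eq_zero.1 this.2))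
  · obtain ⟨a, ha, b, hb, e⟩ := exists_add hω hK v.1
    have h2 := mem_Fx.1 v.2
    have := indep hω (sub_mem (smul_mem hω hK g ha) ha) (sub_mem (smul_mem hω hK g hb) hb) (by
      rw [smul_sub, sub_add_sub_comm, sub_eq_zero, smul_comm, ← smul_add, ← e, h2])
    exact ⟨(⟨a, ha, mem_Fx.2 (sub_eq_zero.1 this.1)⟩, ⟨b, hb, mem_Fx.2 (sub_eq_zero.1 this.2)⟩), Subtype.ext e.symm⟩

omit hK [Fintype K] in
theorem ok : c17.Ok hω := Cert.sound hω (band_eq_true.1 (band_eq_true.1 ok17).1).1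

omit hK [Fintype K] in
theorem pk_Am (a : ℕ) : PK ω (Am a) (ad chevE6 K (c17.cv ω a) + (xx hω c17.w1).1.1) := by
  rw [show c17.cv ω a = dv ω (m1 c17.cs a) by
    rw [dv, m1, dec2_cs (ok hω).lt a one_pos, zero_mul, Nat.shiftRight_zero]]
  exact (pk_adm hω _).xor (pk_xx hω _)

omit hK [Fintype K] in
theorem exists_cv {v : chevE6.Idx → K} (hv : v ∈ VV ω) (h : (xx hω c17.w1).1.1 • v = v) : ∃ a < 64, v = c17.cv ω a :=
  (ok hω).exists_cv hω ⟨hv.imp fun _ => Eq.symm, (closure_le (MulAction.stabilizer _ _)).2 (by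
    rintro _ (rfl | rfl)
    exacts [h, one_smul _ v])⟩

omit hK [Fintype K] in
theorem fix_cs {c : ℕ} (hc : c ∈ c17.cs) : (xx hω c17.w1).1.1 • dv ω c = dv ω c := by
  have h := okB
  simp only [force_eq, forceL_eq, band_eq_true] at h
  have := dv_wv hω [c17.w1] c
  rw [Nat.eq_of_beq_eq_true (band_eq_true.1 (allL_sound h.1.2 _ hc)).2, evL_one] at this
  exact this.symm

theorem pow_eq_one {y : twistedE6 K 2} (hc : Commute (xx hω c17.w1) y) (hf : ∀ c ∈ c17.cs, y.1.1 • dv ω c = dv ω c) :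
    y ^ 255 = 1 := by
  have h := okB
  simp only [force_eq, forceL_eq, band_eq_true] at h
  obtain ⟨⟨h1, h2⟩, h3, h4⟩ := h
  have hA := pk_Am hω 3
  have hy : Commute y.1.1 (ad chevE6 K (c17.cv ω 3) + (xx hω c17.w1).1.1) := by
    refine Commute.add_right ?_ (congrArg (fun g : twistedE6 K 2 => g.1.1) hc.symm.eq)
    have h5 : y.1.1 • c17.cv ω 3 = c17.cv ω 3 := by
      rw [Cert.cv, dec2, Finset.smul_sum]
      refine Finset.sum_congr rfl fun i hi => ?_
      split_ifs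
      · exact hf _ (List.getD_eq_getElem _ _ (Finset.mem_range.1 hi) ▸ List.getElem_mem _)
      · exact smul_zero _
    exact (aut y _).trans (congrArg (ad chevE6 K · * y.1.1) h5)
  generalize ad chevE6 K (c17.cv ω 3) + (xx hω c17.w1).1.1 = A at hA hy
  have h5 : A ^ 256 = A := (pow_succ _ _).trans ((hA.lk.iter hA 255).eq hω hA h1)
  have h6 : ∀ p : K[X], aeval A p ^ 256 = aeval A p := fun p => by
    have := aeval_pow A p 4
    rwa [hK, show 4 ^ 4 = 256 from rfl, h5] at this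
  have h7 : ∀ p : K[X], Commute y.1.1 (aeval A p) := fun p =>
    Algebra.commute_of_mem_adjoin_singleton_of_commute (aeval_mem_adjoin_singleton K A) hy
  set v := aeval A (X + 1 : K[X]) • dv ω v0 with hv
  let U : Submodule K (chevE6.Idx → K) := LinearMap.range
    ({ toFun := fun p => aeval A p • v, map_add' := fun p q => by rw [map_add, add_smul],
       map_smul' := fun c p => by rw [map_smul, smul_assoc]; rfl } : K[X] →ₗ[K] _)
  have h8 : (Fx y.1.1 ⊓ Fx A) ⊔ U = ⊤ := span_eB hω _ fun k hk => by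
    have h8 : ∀ n w, dv ω w ∈ U → ∀ c ∈ kry (unp (Am 3)) n w, dv ω c ∈ U := fun n => by
      induction n with
      | zero => exact fun _ _ _ h => absurd h List.not_mem_nil
      | succ n ih =>
        intro w hw c hc
        rw [show ∀ M, kry M (n + 1) w = w :: kry M n (m1 M w) from
          fun M => force_eq w fun v => v :: kry M n (m1 M v), List.mem_cons] at hc
        refine hc.elim (· ▸ hw) (ih _ ?_ c)
        obtain ⟨p, hp⟩ := hw
        exact ⟨X * p, by rw [hA.lk.m1, ← hp]; simp⟩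
    have h9 := ((pk_one (ω := ω)).of_eqM h4 k hk).trans
      (dec2_cs (fun c hc => Nat.le_of_ble_eq_true (allL_sound h3 c hc)) _ (Nat.succ_lt_succ hk))
    rw [one_smul] at h9
    rw [h9]
    refine Submodule.sum_mem _ fun i hi => ?_
    split_ifs
    · beta_reduce
      rw [List.getD_eq_getElem _ _ (Finset.mem_range.1 hi)]
      rcases List.mem_append.1 (List.getElem_mem (Finset.mem_range.1 hi)) with h | h
      · refine Submodule.mem_sup_left ⟨mem_Fx.2 (hf _ h), mem_Fx.2 ?_⟩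
        rw [← hA.lk.m1, Nat.eq_of_beq_eq_true (band_eq_true.1 (allL_sound h2 _ h)).1]
      · refine Submodule.mem_sup_right (h8 _ _ ⟨1, ?_⟩ _ h)
        rw [show dv ω (Nat.xor _ _) = _ from dec2_xor add_self_vec' _ _ _ _ 0, ← dv, ← dv, hA.lk.m1]
        simp [hv, add_smul]
    · exact zero_mem _
  obtain ⟨h, hh, _, ⟨p, rfl⟩, e⟩ := Submodule.mem_sup.1 (h8.ge (Submodule.mem_top (x := y.1.1 • dv ω v0)))
  have h9 : y.1.1 • v = aeval A ((X + 1) * p) • v := by
    have h9 : aeval A (X + 1 : K[X]) • h = 0 := by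
      rw [map_add, aeval_X, map_one, add_smul, mem_Fx.1 hh.2, one_smul, add_self_vec']
    rw [map_mul, mul_smul, hv, ← mul_smul, (h7 _).eq, mul_smul, ← e, smul_add, h9, zero_add]
    rfl
  have h10 : ∀ (n : ℕ) (q : K[X]), y.1.1 ^ n • aeval A q • v = aeval A (((X + 1) * p) ^ n * q) • v := fun n q => by
    induction n with
    | zero => simp
    | succ n ih => rw [pow_succ', mul_smul, ih, ← mul_smul, (h7 _).eq, mul_smul, h9, ← mul_smul, ← map_mul]; ring_nf
  have h11 : LinearMap.eqLocus (y.1.1 ^ 256).mulVecLin y.1.1.mulVecLin = ⊤ := top_unique (h8.ge.trans (sup_le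
    (fun w hw => ?_) ?_))
  · have h12 : y ^ 256 = y := Subtype.ext (Units.ext (ext_iff_mulVec.2 fun v => h11.ge trivial))
    rwa [pow_succ, mul_eq_right] at h12
  · exact (pow_mem (show y ∈ MulAction.stabilizer _ w from mem_Fx.1 hw.1) 256).trans (mem_Fx.1 hw.1).symm
  · rintro _ ⟨q, rfl⟩
    have := h10 1 q
    rw [pow_one, pow_one] at this
    refine (h10 256 q).trans (Eq.trans ?_ this.symm)
    rw [map_mul, map_pow, h6, ← map_mul]

theorem fix_odd {y : twistedE6 K 2} (hc : Commute (xx hω c17.w1) y) (ho : Odd (orderOf y)) {c : ℕ} (h : c ∈ c17.cs) :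
    y.1.1 • dv ω c = dv ω c := by
  obtain ⟨i, hi, rfl⟩ := List.getElem_of_mem h
  have h1 : c17.cv ω (2 ^ i) = dv ω c17.cs[i] := by rw [Cert.cv, dec2_two_pow _ hi, List.getD_eq_getElem _ _ hi]
  have hc' : y.1.1 * (xx hω c17.w1).1.1 = (xx hω c17.w1).1.1 * y.1.1 :=
    congrArg (fun g : twistedE6 K 2 => g.1.1) hc.symm.eq
  refine fix_of_pair ho (q := c17.cv ω (pt i)) (S := {v | v ∈ VV ω ∧ (xx hω c17.w1).1.1 • v = v ∧
    hq (pl i) (ad chevE6 K v + (xx hω c17.w1).1.1) = 0}) ?_ ?_ ⟨⟨_, rfl⟩, fix_cs hω h, ?_⟩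
  · rintro v ⟨h2, h3, h4⟩
    obtain ⟨a, ha, rfl⟩ := exists_cv hω h2 h3
    have h5 := allLt_sound ((forceL_eq _ _).symm.trans (okA ha)) i hi
    rcases Bool.eq_false_or_eq_true (Nat.beq a (Nat.pow 2 i)) with e | e
    · exact Or.inl (h1 ▸ congrArg _ (Nat.eq_of_beq_eq_true e))
    rcases Bool.eq_false_or_eq_true (Nat.beq a (pt i)) with e' | e'
    · exact Or.inr (congrArg _ (Nat.eq_of_beq_eq_true e'))
    rw [e, e'] at h5
    exact absurd (by rw [(pk_Am hω a).lk.hq1, h4, zero_smul, dv, dec2_zero]) (dv_ne hω h5)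
  · rintro v ⟨h2, h3, h4⟩
    refine ⟨smul_mem hω hK y h2, ?_, ?_⟩
    · change _ • y.1.1 • v = y.1.1 • v
      rw [← mul_smul, ← hc', mul_smul, h3]
    · have := hq_conj (pl i) (ad chevE6 K v + (xx hω c17.w1).1.1) y.1
      rw [h4, mul_add, aut y, hc', ← add_mul, Units.mul_inv_cancel_right, mul_zero, zero_mul] at this
      exact this.symm
  · have h5 := allLt_sound ((forceL_eq _ _).symm.trans (okA (Nat.pow_lt_pow_right one_lt_two hi : 2 ^ i < 2 ^ 6))) i hi
    rw [show Nat.beq (2 ^ i) (Nat.pow 2 i) = true from Nat.beq_refl _] at h5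
    rw [← h1, ← mul_one (hq _ _)]
    exact ((pk_Am hω _).lk.hqM pk_one _).eq hω (fun k _ => by simp [dec2_zero]) h5

theorem fix_two {y : twistedE6 K 2} (hc : Commute (xx hω c17.w1) y) (ho : orderOf y = 2) {c : ℕ} (h : c ∈ c17.cs) :
    y.1.1 • dv ω c = dv ω c := by
  have : Fact (Nat.Prime 17) := ⟨by norm_num⟩
  have hφ : ∀ t : K, frobenius K 2 t = t ^ 2 := fun _ => rfl
  obtain ⟨g, hg, w, hw, e⟩ := (ChevInv.classesTE6 hφ (Twist.frob2 hφ hK)).2 y.1 y.2 ((orderOf_coe y).trans ho)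
  have y2 : y ^ 2 = 1 := orderOf_dvd_iff_pow_eq_one.1 ho.dvd
  have h1 : (y.1.1 - 1).rank ∈ [22, 32, 32, 38] := by
    rw [← ChevInv.rkTE6]
    refine List.mem_map.2 ⟨w, hw, ?_⟩
    rw [← ChevInv.rank_eq_rk (F := K) matchE6.ofD_eq rfl, ← e, show (g * y.1 * g⁻¹)⁻¹.1 - 1 = g.1 * (y.1.1 - 1) * g⁻¹.1 by
      rw [mul_sub, sub_mul, mul_one, Units.mul_inv, ← Units.val_mul, ← Units.val_mul, conj_inv, ← coe_inv,
        inv_eq_of_mul_eq_one_right ((sq y).symm.trans y2)],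
      rank_mul_eq_left_of_isUnit_det _ _ (isUnits_det_units _), rank_mul_eq_right_of_isUnit_det _ _ (isUnits_det_units _)]
  have h2 := (Nat.pow_left_inj two_ne_zero).1 (card_sq hω hK y)
  have hc' : y.1.1 * (xx hω c17.w1).1.1 = (xx hω c17.w1).1.1 * y.1.1 :=
    congrArg (fun g : twistedE6 K 2 => g.1.1) hc.symm.eq
  set x := xx hω c17.w1
  have key : ∀ (p : ℕ) [Fact p.Prime] (a b : twistedE6 K 2), a ^ p = 1 → b.1.1 * a.1.1 = a.1.1 * b.1.1 →
      {v | v ∈ VV ω ∧ b.1.1 • v = v}.ncard ≡ {v | (v ∈ VV ω ∧ b.1.1 • v = v) ∧ a.1.1 • v = v}.ncard [MOD p] :=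
    fun p _ a b h1 h2 => ncard_modEq (f := fun v => a • v) (S := {v | v ∈ VV ω ∧ b.1.1 • v = v}) (fun v hv => ⟨smul_mem hω hK a hv.1, by
      change _ • a.1.1 • v = a.1.1 • v
      rw [← mul_smul, h2, mul_smul, hv.2]⟩) fun v _ => by rw [smul_iterate, h1]; exact one_smul _ v
  have h3 := key 17 x y (ok hω).pow.1 hc'
  have h4 := key 2 y x y2 hc'.symm
  have h5 : ∀ A : AddSubgroup (chevE6.Idx → K), ∃ n, (A : Set (chevE6.Idx → K)).ncard = 2 ^ n := fun A => by
    have := A.card_addSubgroup_dvd_card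
    rw [Nat.card_fun, Nat.card_eq_fintype_card (α := K), hK, show 4 = 2 ^ 2 from rfl, ← pow_mul] at this
    exact ((Nat.dvd_prime_pow Nat.prime_two).1 this).imp fun _ h => h.2
  have h6 : ∀ a : twistedE6 K 2, {v | v ∈ VV ω ∧ a.1.1 • v = v} = SetLike.coe (VV ω ⊓ (Fx a.1.1).toAddSubgroup) :=
    fun a => Set.ext fun v => and_congr_right' mem_Fx.symm
  have h7 : {v | (v ∈ VV ω ∧ x.1.1 • v = v) ∧ y.1.1 • v = v} =
      SetLike.coe (VV ω ⊓ (Fx x.1.1).toAddSubgroup ⊓ (Fx y.1.1).toAddSubgroup) :=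
    Set.ext fun v => and_congr (and_congr_right' mem_Fx.symm) mem_Fx.symm
  have h8 : {v | v ∈ VV ω ∧ x.1.1 • v = v}.ncard ≤ 64 := by
    refine (Set.ncard_le_ncard (t := c17.cv ω '' (Finset.range 64 : Finset ℕ)) (fun v hv => ?_)).trans
      ((Set.ncard_image_le (Finset.finite_toSet _)).trans (by simp))
    obtain ⟨a, ha, rfl⟩ := exists_cv hω hv.1 hv.2
    exact ⟨a, by simpa using ha, rfl⟩
  have h9 : 1 < {v | v ∈ VV ω ∧ x.1.1 • v = v}.ncard := (Set.one_lt_ncard (Set.toFinite _)).2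
    ⟨_, ⟨⟨_, rfl⟩, fix_cs hω (List.mem_cons_self : 0x1000800808ec1000000 ∈ c17.cs)⟩, 0, ⟨zero_mem _, smul_zero _⟩,
      (dv_ne hω (by decide +kernel)).trans_eq (dec2_zero _ _ _)⟩
  have h10 : {v | (v ∈ VV ω ∧ x.1.1 • v = v) ∧ y.1.1 • v = v} ⊆ {v | v ∈ VV ω ∧ x.1.1 • v = v} := fun _ h => h.1
  rw [h6, ← Nat.card_coe_set_eq, SetLike.coe_sort_coe, h2,
    show {v | (v ∈ VV ω ∧ _) ∧ _} = _ from Set.ext fun _ => and_right_comm] at h3
  refine ((Set.eq_of_subset_of_ncard_le h10 ?_).ge ⟨⟨_, rfl⟩, fix_cs hω h⟩).2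
  obtain ⟨m, hm⟩ := h5 (VV ω ⊓ (Fx x.1.1).toAddSubgroup ⊓ (Fx y.1.1).toAddSubgroup)
  obtain ⟨n, hn⟩ := h5 (VV ω ⊓ (Fx x.1.1).toAddSubgroup)
  rw [← h7] at hm
  rw [← h6] at hn
  replace h10 := Set.ncard_le_ncard h10
  replace h3 := h3.trans (congrArg (· % 17) hm)
  rw [hn] at h4 h8 h9 h10 ⊢
  rw [hm] at h4 h10 ⊢
  exact arith h1 h3 h4 h8 h9 h10

end CfsgLib.KInv.B17

namespace CfsgLib.KInv

open Cfsg Subgroup Cfsg.Lie

theorem e62_seventeen {K : Type} [Field K] [Fintype K] (hK : Fintype.card K = 4) {x y : twistedE6 K 2}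
    (hx : orderOf x = 17) (hc : Commute x y) (hy : (orderOf y).Prime) : orderOf y = 3 ∨ orderOf y = 17 := by
  have : Fact (Nat.Prime 17) := ⟨by norm_num⟩
  obtain ⟨_, ω, hω⟩ := Y333.exists_units hK
  have h0 := orderOf_eq_prime (p := 17) (B17.ok hω).pow.1 (B17.ok hω).ne
  obtain ⟨g, hg⟩ := E62P.exists_conj_le (S := zpowers (E62P.xx hω E62P.c17.w1))
    (IsPGroup.of_card (p := 17) (n := 1) ((Nat.card_zpowers x).trans hx)) (by rw [Nat.card_zpowers, h0, E62P.fac hK]; simp)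
  rw [MonoidHom.map_zpowers] at hg
  have h1 := eq_of_le_of_card_ge hg (by
    rw [Nat.card_zpowers, Nat.card_zpowers, h0, orderOf_injective _ (MulAut.conj g).injective, hx])
  obtain ⟨k, hk⟩ := h1.ge (mem_zpowers _)
  have h2 : Commute (E62P.xx hω E62P.c17.w1) (MulAut.conj g y) := hk ▸ (hc.map (MulAut.conj g)).zpow_left k
  have h3 : orderOf y ∣ 3 * 5 * 17 := by
    rw [← (MulAut.conj g).orderOf_eq] at hy ⊢
    refine orderOf_dvd_of_pow_eq_one (B17.pow_eq_one hω hK h2 fun c h => ?_)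
    exact hy.eq_two_or_odd'.elim (B17.fix_two hω hK h2 · h) (B17.fix_odd hω hK h2 · h)
  simp only [hy.dvd_mul, Nat.prime_dvd_prime_iff_eq hy, Nat.prime_three, Nat.prime_five, this.1] at h3
  rcases h3 with (h | h) | h
  · exact Or.inl h
  · obtain ⟨e⟩ := (Cfsg.Agent.S2227.result hK).2 y h
    have h4 := orderOf_dvd_natCard (⟨x, mem_centralizer_singleton_iff.2 hc⟩ : centralizer {y})
    rw [← orderOf_coe, hx, Nat.card_congr e.toEquiv, Nat.card_prod, nat_card_alternatingGroup] at h4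
    simp [Nat.factorial] at h4
  · exact Or.inr h

end CfsgLib.KInv
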