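import Mathlib
import Cfsg.Agent.Lib.KInv.SpBE
import Cfsg.Agent.Lib.KInv.SpB17
import Cfsg.Agent.Lib.KInv.BYa
import Cfsg.Agent.Lib.TwoGrp2.Three

/-!
# Elements of order 17 in the Baby Monster (package BY of plans/KINV.md)
-/

set_option autoImplicit false

namespace CfsgLib.KInv

open Cfsg Subgroup CfsgLib.LAE CfsgLib.Mon CfsgLib.Mon.Cov CfsgLib.Mon.Y Cfsg.Spor Cfsg.Lie

theorem cases_of_mem_closure {G : Type*} [Group G] {t s y : G} (ht : t * t = 1) (hs : s * s = 1) (hc : Commute s t)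
    (hy : y ∈ closure {t, s}) : y = 1 ∨ y = t ∨ y = s ∨ y = s * t := by
  have h1 : t * s = s * t := hc.symm
  have h2 : t * (s * t) = s := by rw [← h1, ← mul_assoc, ht, one_mul]
  have h3 : s * (s * t) = t := by rw [← mul_assoc, hs, one_mul]
  induction hy using closure_induction_left with
  | one => exact .inl rfl
  | mul_left x hx y _ ih =>
    rcases hx with rfl | rfl <;> rcases ih with rfl | rfl | rfl | rfl <;> simp [ht, hs, h1, h2, h3]
  | inv_mul_cancel x hx y _ ih =>
    rcases hx with rfl | rfl <;> rcases ih with rfl | rfl | rfl | rfl <;>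
      simp [inv_eq_of_mul_eq_one_left ht, inv_eq_of_mul_eq_one_left hs, ht, hs, h1, h2, h3]

theorem exists_seventeen {π : C k0 →* Monster} {τ : Monster} {m : Nd → Monster} (h : MS π τ) (Y : YM π m) :
    ∃ c x : Monster, c * c = π tK ∧ orderOf x = 17 ∧ Commute x c ∧ ∀ y, Commute y c → Commute y x →
      (orderOf y).Prime → orderOf y = 2 ∨ orderOf y = 3 ∨ orderOf y = 17 := by
  have := h.finite
  have : Fact (Nat.Prime 17) := ⟨by norm_num⟩
  have := Fact.mk Nat.prime_two
  obtain ⟨⟨x, hxt⟩, hx⟩ := exists_prime_orderOf_dvd_card' (G := centralizer {π tK}) 17 (by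
    rw [h.cent_t, h.card_K]; norm_num)
  rw [← orderOf_coe, coe_mk] at hx
  have hxt' : x * π tK = π tK * x := mem_centralizer_singleton_iff.1 hxt
  have tt := MS.t_mul_self π
  have k0 : ∀ s, s * s = 1 → s ≠ 1 → s * x = x * s → IsConj (π tK) s := fun s h1 h2 h3 =>
    (h.inv_cases (orderOf_eq_prime (by rwa [pow_two]) h2)).resolve_left fun e => by
      have h4 := orderOf_dvd_natCard (⟨x, mem_centralizer_singleton_iff.2 h3.symm⟩ : centralizer {s})
      rw [← orderOf_coe, coe_mk, hx, ← card_centralizer_of_isConj e, ← h.cent_z,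
        ← Nat.card_congr (MonoidHom.ofInjective h.inj).toEquiv, card_C] at h4
      norm_num at h4
  let t : cen2 (π tK) x := ⟨π tK, mem_cen2.2 ⟨rfl, hxt'.symm⟩⟩
  have t1 : t ≠ 1 := fun e => by
    have := h.orderOf_t
    rw [show π tK = 1 from congrArg Subtype.val e] at this
    simp at this
  have tc : ∀ g, g * t = t * g := fun g => Subtype.ext (mem_cen2.1 g.2).1
  have k1 : ∀ s : cen2 (π tK) x, s ∈ Sg t ↔ (s : Monster) ∈ DD π := fun s => by
    obtain ⟨h1, h2⟩ := mem_cen2.1 s.2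
    refine ⟨fun hs => ⟨k0 _ (congrArg Subtype.val hs.1) (fun e => hs.2.1 (Subtype.ext e)) h2, k0 _ ?_ (fun e => hs.2.2 ?_)
      (mem_cen2.1 (s * t).2).2, h1⟩, fun hs => ⟨Subtype.ext ?_, fun e => t1 (Subtype.ext ?_), fun e => t1 (Subtype.ext ?_)⟩⟩
    · rw [mul_assoc, ← mul_assoc (π tK), ← h1, mul_assoc, tt, mul_one]
      exact congrArg Subtype.val hs.1
    · exact Subtype.ext ((eq_inv_of_mul_eq_one_left e).trans (inv_eq_of_mul_eq_one_left tt))
    · obtain ⟨g, hg⟩ := isConj_iff.1 hs.1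
      rw [coe_mul, ← hg, conj_mul, tt, mul_one, mul_inv_cancel, coe_one]
    · have := hs.1
      rw [e] at this
      exact isConj_one_left.1 this
    · have := hs.2.1
      rw [e, show (t : Monster) * π tK = 1 from tt] at this
      exact isConj_one_left.1 this
  have B : BY t := by
    refine ⟨Subtype.ext tt, t1, tc, fun s hs y hy r hr h3 h17 hyr => ?_, fun a ha b hb => ?_, fun a ha b hb => ?_⟩
    · have := Fact.mk hr
      obtain ⟨K, _, _, hK, f, -, hf⟩ := exists_e62 h Y ((k1 s).1 hs)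
      have hs1 : (s : Monster) * s = 1 := congrArg Subtype.val hs.1
      have k : ∀ g, f g = 1 → _ := fun g hg => cases_of_mem_closure tt hs1 (mem_cen2.1 s.2).1 ((hf g).1 hg)
      let x' : cen2 (π tK) s := ⟨x, mem_cen2.2 ⟨hxt', (mem_cen2.1 s.2).2.symm⟩⟩
      let y' : cen2 (π tK) s := ⟨y, mem_cen2.2 ⟨(mem_cen2.1 y.2).1, congrArg Subtype.val hy.eq⟩⟩
      by_cases h1 : f y' = 1
      · exact (k _ h1).imp Subtype.ext (Or.imp Subtype.ext (Or.imp Subtype.ext Subtype.ext))
      have h2 : orderOf (f y') = r := orderOf_eq_prime (by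
        rw [← map_pow, show y' ^ r = 1 from Subtype.ext (show (y : Monster) ^ r = 1 from congrArg Subtype.val hyr), map_one]) h1
      have h4 : orderOf (f x') = 17 := orderOf_eq_prime (by
        rw [← map_pow, show x' ^ 17 = 1 from Subtype.ext (hx ▸ pow_orderOf_eq_one x), map_one]) fun e => by
          have h5 : x ^ 2 = 1 := by
            rcases k _ e with e | e | e | e <;> rw [show x = _ from e, pow_two]
            exacts [mul_one 1, tt, hs1, by rw [mul_assoc, ← mul_assoc (π tK), ← (mem_cen2.1 s.2).1, mul_assoc, tt, mul_one, hs1]]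
          exact absurd (hx ▸ orderOf_dvd_of_pow_eq_one h5) (by norm_num)
      have := e62_seventeen hK h4 (Commute.map (show Commute x' y' from Subtype.ext (mem_cen2.1 y.2).2.symm) f) (h2 ▸ hr)
      omega
    · obtain ⟨n, h0, h4, h5⟩ := pow_of_DD h Y ((k1 a).1 ha) ((k1 b).1 hb)
      exact ⟨n, h0, h4, h5.imp Subtype.ext Subtype.ext⟩
    · rw [← orderOf_coe]
      exact h.six ((k1 a).1 ha).1 ((k1 b).1 hb).1
  refine (B.main ?_ fun e => ?_).elim fun c ⟨h1, h2⟩ => ?_
  rotate_right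
  · have h3 : (c : Monster) * c = π tK := congrArg Subtype.val h1
    refine ⟨c, x, h3, hx, (mem_cen2.1 c.2).2.symm, fun y h4 h5 h6 => ?_⟩
    simpa only [← orderOf_coe] using h2 ⟨y, mem_cen2.2 ⟨h3 ▸ h4.mul_right h4, h5⟩⟩ (Subtype.ext h4) (by rwa [← orderOf_coe])
  · have h1 := TwoGrp2.ncard_modEq_fix (p := 17) (σ := MulAut.conj x) (S := DD π)
      (by rw [← map_pow, ← hx, pow_orderOf_eq_one, map_one]) fun a ha => by
        have e : π tK = x * π tK * x⁻¹ := by rw [hxt', mul_inv_cancel_right]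
        refine ⟨ha.1.trans (isConj_iff.2 ⟨x, rfl⟩), ha.2.1.trans (isConj_iff.2 ⟨x, ?_⟩), ?_⟩
        · rw [← conj_mul, ← e, MulAut.conj_apply]
        · exact e ▸ ha.2.2.map (MulAut.conj x)
    rw [ncard_DD h Y] at h1
    rw [← Set.ncard_image_of_injective _ Subtype.val_injective]
    refine Nat.ModEq.trans (Eq.trans (congrArg (· % 17) (congrArg Set.ncard ?_)) h1.symm) (by decide)
    refine Set.ext fun a => ⟨?_, fun ha => ⟨⟨a, mem_cen2.2 ⟨ha.1.2.2, ?_⟩⟩, (k1 _).2 ha.1, rfl⟩⟩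
    · rintro ⟨s, hs, rfl⟩
      exact ⟨(k1 s).1 hs, mul_inv_eq_iff_eq_mul.2 (mem_cen2.1 s.2).2.symm⟩
    · exact (mul_inv_eq_iff_eq_mul.1 ha.2).symm
  · have h1 := e.trans (card_dvd_of_le inf_le_left)
    rw [h.cent_t, h.card_K] at h1
    norm_num at h1

end CfsgLib.KInv
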