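import Mathlib
import Cfsg.Agent.Lib.KInv.SpMA
import Cfsg.Agent.Lib.KInv.SpBU
import Cfsg.Agent.Lib.KInv.SpBY

/-!
# The Baby Monster, components (package SPMA of plans/KINV.md)
-/

set_option autoImplicit false

namespace CfsgLib.KInv

open Cfsg Subgroup CfsgLib.LAE CfsgLib.Mon CfsgLib.Mon.Cov CfsgLib.Mon.Y Cfsg.Spor Cfsg.Lie

theorem not_dvd_B {r i : ℕ} (hr : r.Prime) (h5 : 5 ≤ r) (h17 : r ≠ 17) (hi : 0 < i)
    (h : r ^ i ∣ 4154781481226426191177580544000000) : ¬ 17 ∣ r ^ i - 1 := by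
  have h1 : r ∣ 2 ^ 41 * 3 ^ 13 * 5 ^ 6 * 7 ^ 2 * 11 * 13 * 17 * 19 * 23 * 31 * 47 := (dvd_pow_self r hi.ne').trans h
  have key : ∀ p k, p.Prime → r ∣ p ^ k → r = p := fun p k hp e =>
    (Nat.prime_dvd_prime_iff_eq hr hp).1 (hr.dvd_of_dvd_pow e)
  have key' : ∀ p, p.Prime → r ∣ p → r = p := fun p hp e => (Nat.prime_dvd_prime_iff_eq hr hp).1 e
  have h2 : r = 5 ∨ r = 7 ∨ r = 11 ∨ r = 13 ∨ r = 19 ∨ r = 23 ∨ r = 31 ∨ r = 47 := by
    simp only [hr.dvd_mul] at h1
    rcases h1 with (((((((((e | e) | e) | e) | e) | e) | e) | e) | e) | e) | e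
    iterate 4 have := key _ _ (by norm_num) e; omega
    all_goals have := key' _ (by norm_num) e; omega
  have h3 : i < 7 := by
    by_contra k
    have := (pow_dvd_pow r (not_lt.1 k)).trans h
    rcases h2 with rfl | rfl | rfl | rfl | rfl | rfl | rfl | rfl <;> norm_num at this
  rcases h2 with rfl | rfl | rfl | rfl | rfl | rfl | rfl | rfl <;> interval_cases i <;> first | (norm_num at h; done) | norm_num

theorem spB_B {G : Type*} [Group G] [Finite G] (h : Spor.IsoB G) : SpB G := by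
  obtain ⟨e⟩ := h
  refine SpB.congr e fun y hy => ?_
  obtain ⟨π, τ, m, h, Y⟩ := (Ym.inputs Y333.y333Card).exists_ms
  have := h.finite
  obtain ⟨σ, c⟩ := exists_ce h Y
  have : Finite BabyMonster := Finite.of_surjective σ c.surj
  obtain ⟨u, rfl⟩ := c.surj y
  rcases c.eq_one.1 (by rw [map_mul, ← pow_two, ← hy, pow_orderOf_eq_one] : σ (u * u) = 1) with k | k
  · exact (both_B h Y c k fun l => by simp [l] at hy).2
  obtain ⟨a, x, a1, x1, x2, x3⟩ := exists_seventeen h Y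
  obtain ⟨g, g1, g2⟩ := conj_of_sq h a1 (congrArg Subtype.val k)
  have mem : ∀ {b}, Commute b (π tK) → b ∈ KK π τ := fun e => h.cent_t.le (mem_centralizer_singleton_iff.2 e)
  let a' : KK π τ := ⟨a, mem (a1 ▸ (Commute.refl a).mul_right (Commute.refl a))⟩
  let x' : KK π τ := ⟨x, mem (a1 ▸ x2.mul_right x2)⟩
  let g' : KK π τ := ⟨g, mem g1⟩
  have u1 : σ u⁻¹ = σ u := by
    rw [map_inv]
    exact inv_eq_of_mul_eq_one_right (by rw [← map_mul, k, c.map_t])
  refine OneC.of_isConj (a := σ a') (isConj_iff.2 ⟨σ g', ?_⟩) ?_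
  · rw [← map_inv, ← map_mul, ← map_mul]
    exact g2.elim (fun l => congrArg σ (Subtype.ext l)) fun l => (congrArg σ (Subtype.ext l)).trans u1
  have x4 : x' ^ 17 = 1 := Subtype.ext (x1 ▸ pow_orderOf_eq_one x)
  have x5 : Commute x' a' := Subtype.ext x2
  have : Fact (Nat.Prime 17) := ⟨by norm_num⟩
  refine oneC_of_prime (p := 17) (by norm_num) (card_B ▸ card_subgroup_dvd_card _) (by norm_num)
    (x := ⟨σ x', mem_centralizer_singleton_iff.2 (x5.map σ)⟩) ?_ (fun y y1 y2 => ?_) fun r i a b c d e => not_dvd_B a b c d e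
  · refine orderOf_eq_prime (Subtype.ext ((map_pow σ _ _).symm.trans (by rw [x4, map_one]; rfl))) fun l => ?_
    rcases c.eq_one.1 (congrArg Subtype.val l) with l | l
    · simp [show x = 1 from congrArg Subtype.val l] at x1
    · rw [show x = π tK from congrArg Subtype.val l, h.orderOf_t] at x1
      omega
  rcases y2.eq_two_or_odd' with l | l
  · exact Or.inl l
  obtain ⟨w, w1, w2⟩ := c.exists_lift (y := y.1) l (congrArg Subtype.val (pow_orderOf_eq_one y))
  have w3 : orderOf w.1 = orderOf y := by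
    rw [orderOf_coe, ← orderOf_coe y, ← w1]
    exact Nat.dvd_antisymm (by rw [w1, orderOf_coe]; exact orderOf_dvd_of_pow_eq_one w2) (orderOf_map_dvd σ w)
  have w4 := c.comm_of_odd (u := a') l w2 (w1 ▸ mem_centralizer_singleton_iff.1 y.2)
  have w5 := c.comm_of_odd (u := x') l w2 (by rw [w1]; exact congrArg Subtype.val y1.symm.eq)
  have := x3 w.1 (w4.map (KK π τ).subtype) (w5.map (KK π τ).subtype) (w3 ▸ y2)
  rwa [w3] at this

end CfsgLib.KInv
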